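import Mathlib
import Cfsg.Agent.Lib.Helper22.Iso.Defs
import Cfsg.Agent.Lib.Helper21.Iso.K3

/-!
# ISO (S3044 + S3045), package PkgDict3 (helper21)
-/

set_option autoImplicit false

namespace Cfsg.Agent.Lib.Helper21.Iso

open Cfsg.Agent.Lib.Helper22.Iso

universe u

section aux

variable {G : Type u} [Group G]

/-- Conjugation by `y` as an automorphism of a subgroup it normalizes. -/
def d3ConjEquiv (W : Subgroup G) (y : G) (h1 : ∀ w ∈ W, y * w * y⁻¹ ∈ W)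
    (h2 : ∀ w ∈ W, y⁻¹ * w * y ∈ W) : ↥W ≃* ↥W where
  toFun w := ⟨y * w.1 * y⁻¹, h1 w.1 w.2⟩
  invFun w := ⟨y⁻¹ * w.1 * y, h2 w.1 w.2⟩
  left_inv w := by
    apply Subtype.ext
    simp [mul_assoc]
  right_inv w := by
    apply Subtype.ext
    simp [mul_assoc]
  map_mul' a b := by
    apply Subtype.ext
    simp [mul_assoc]

/-- `O_p(W) ≤ O_p(Y)` when `W ≤ Y` is normalized by `Y`. -/
theorem d3_opOf_le_opOf {p : ℕ} [Fact p.Prime] (W Y : Subgroup G) (hWY : W ≤ Y)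
    (hnorm : ∀ y ∈ Y, ∀ w ∈ W, y * w * y⁻¹ ∈ W) : opOf p W ≤ opOf p Y := by
  apply k3_le_opOf Y (opOf p W)
  · rintro _ ⟨w, _, rfl⟩
    exact hWY w.2
  · exact (Cfsg.Agent.Lib.Helper55.pCore_isPGroup p ↥W).map W.subtype
  · rintro y hy _ ⟨w, hw, rfl⟩
    have h2 : ∀ w ∈ W, y⁻¹ * w * y ∈ W := by
      intro w hw
      have h := hnorm y⁻¹ (Y.inv_mem hy) w hw
      simpa using h
    have hchar : (Cfsg.pCore p ↥W).Characteristic :=
      Cfsg.Agent.Lib.Helper63.pCore_characteristic' p ↥W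
    have h3 : w ∈ (Cfsg.pCore p ↥W).comap (d3ConjEquiv W y (hnorm y hy) h2).toMonoidHom := by
      rw [hchar.fixed]
      exact hw
    exact ⟨d3ConjEquiv W y (hnorm y hy) h2 w, h3, rfl⟩

end aux

/-- PkgDict3. -/
theorem pkgDict3 : PkgDict3.{u} := by
  intro G _ _ p _ S L Y T Q _ _ σ hc hk
  have hQp : IsPGroup p Q := S.isPGroup'.to_le hk.QS
  have hπ : ∀ (g : G) (y : ↥Y), σ g (QuotientGroup.mk' (Cfsg.pCore p ↥Y) y) =
      QuotientGroup.mk' (Cfsg.pCore p ↥Y) (MulAut.conjNormal g y) := hc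
  have hcomm_elt : ∀ (q : G) (y : ↥Y),
      MulAut.conjNormal q y = (MulAut.conjNormal q y * y⁻¹) * y := by
    intro q y
    group
  have hcoe : ∀ (q : G) (y : ↥Y), ((MulAut.conjNormal q y * y⁻¹ : ↥Y) : G) =
      q * ((y : G) * q⁻¹ * (y : G)⁻¹) := by
    intro q y
    simp [MulAut.conjNormal_apply, mul_assoc]
  have coreP : ¬ p ∣ Nat.card (↥Y ⧸ Cfsg.pCore p ↥Y) → ∀ q ∈ Q, ∀ y : ↥Y,
      (y : G) * q⁻¹ * (y : G)⁻¹ ∈ Q →
      σ q (QuotientGroup.mk' (Cfsg.pCore p ↥Y) y) = QuotientGroup.mk' (Cfsg.pCore p ↥Y) y := by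
    intro hp q hq y hy
    rw [hπ, hcomm_elt q y, map_mul]
    have hcQ : ((MulAut.conjNormal q y * y⁻¹ : ↥Y) : G) ∈ Q := by
      rw [hcoe]
      exact Q.mul_mem hq hy
    have h1 : QuotientGroup.mk' (Cfsg.pCore p ↥Y) (MulAut.conjNormal q y * y⁻¹) = 1 := by
      obtain ⟨k, hk'⟩ := hQp ⟨_, hcQ⟩
      have hpow : (MulAut.conjNormal q y * y⁻¹ : ↥Y) ^ (p ^ k) = 1 := by
        apply Subtype.ext
        have h := congrArg Subtype.val hk'
        simpa using h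
      have h2 : (QuotientGroup.mk' (Cfsg.pCore p ↥Y) (MulAut.conjNormal q y * y⁻¹)) ^ (p ^ k) = 1 := by
        rw [← map_pow, hpow, map_one]
      have h3 : (QuotientGroup.mk' (Cfsg.pCore p ↥Y) (MulAut.conjNormal q y * y⁻¹)) ^
          (Nat.card (↥Y ⧸ Cfsg.pCore p ↥Y)) = 1 := pow_card_eq_one'
      have hcop : Nat.Coprime (p ^ k) (Nat.card (↥Y ⧸ Cfsg.pCore p ↥Y)) :=
        Nat.Coprime.pow_left k ((Nat.Prime.coprime_iff_not_dvd Fact.out).2 hp)
      have h4 := pow_gcd_eq_one.2 ⟨h2, h3⟩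
      rwa [Nat.Coprime.gcd_eq_one hcop, pow_one] at h4
    rw [h1, one_mul]
  have mem_pull : ∀ (K : Subgroup (↥Y ⧸ Cfsg.pCore p ↥Y)) (y : ↥Y),
      (y : G) ∈ pull p Y K ↔ QuotientGroup.mk' (Cfsg.pCore p ↥Y) y ∈ K := by
    intro K y
    constructor
    · rintro ⟨y', hy', he⟩
      have e : y' = y := Subtype.ext he
      rw [← e]
      exact hy'
    · intro h
      exact ⟨y, h, rfl⟩
  have pull_le : ∀ K : Subgroup (↥Y ⧸ Cfsg.pCore p ↥Y), pull p Y K ≤ Y := by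
    rintro K _ ⟨y, _, rfl⟩
    exact y.2
  have hSnorm : ∀ (K : Subgroup (↥Y ⧸ Cfsg.pCore p ↥Y)),
      (∀ s ∈ (S : Subgroup G), ∀ x ∈ K, σ s x ∈ K) →
      (S : Subgroup G) ≤ Subgroup.normalizer ((pull p Y K : Subgroup G) : Set G) := by
    intro K hK s hs
    have fwd : ∀ t ∈ (S : Subgroup G), ∀ h ∈ pull p Y K, t * h * t⁻¹ ∈ pull p Y K := by
      rintro t ht _ ⟨y, hy, rfl⟩
      have h1 := hK t ht _ hy
      rw [hπ] at h1
      exact (mem_pull K (MulAut.conjNormal t y)).2 h1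
    rw [Subgroup.mem_normalizer_iff]
    intro h
    constructor
    · exact fwd s hs h
    · intro hh
      have h5 := fwd s⁻¹ (Subgroup.inv_mem _ hs) _ hh
      have e : s⁻¹ * (s * h * s⁻¹) * s⁻¹⁻¹ = h := by group
      rwa [e] at h5
  have hTle : ∀ K : Subgroup (↥Y ⧸ Cfsg.pCore p ↥Y), T ≤ pull p Y K → push p Y T ≤ K := by
    rintro K hT _ ⟨y, hy, rfl⟩
    exact (mem_pull K y).1 (hT hy)
  refine ⟨?_, ?_, ?_⟩
  · intro Wb hWn hWS
    by_cases hT : T ≤ pull p Y Wb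
    · left
      exact hTle Wb hT
    · right
      have hWL : pull p Y Wb ≤ L := hk.inv _ (hSnorm Wb hWS) hT
      have hWY : ∀ y ∈ Y, ∀ w ∈ pull p Y Wb, y * w * y⁻¹ ∈ pull p Y Wb := by
        rintro y hy _ ⟨w, hw, rfl⟩
        have h1 : QuotientGroup.mk' (Cfsg.pCore p ↥Y) ((⟨y, hy⟩ : ↥Y) * w * (⟨y, hy⟩ : ↥Y)⁻¹) ∈ Wb := by
          rw [map_mul, map_mul, map_inv]
          exact hWn.conj_mem _ hw _
        exact (mem_pull Wb _).2 h1
      intro q hq x hx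
      obtain ⟨y, rfl⟩ := QuotientGroup.mk'_surjective (Cfsg.pCore p ↥Y) x
      have hw : (y : G) ∈ pull p Y Wb := (mem_pull Wb y).2 hx
      rw [hπ, hcomm_elt q y, map_mul]
      have h1 : QuotientGroup.mk' (Cfsg.pCore p ↥Y) (MulAut.conjNormal q y * y⁻¹) = 1 := by
        rw [QuotientGroup.mk'_apply, QuotientGroup.eq_one_iff]
        have hcW : ((MulAut.conjNormal q y * y⁻¹ : ↥Y) : G) ∈ pull p Y Wb ⊓ Q := by
          refine ⟨?_, ?_⟩
          · have e : ((MulAut.conjNormal q y * y⁻¹ : ↥Y) : G) = q * (y : G) * q⁻¹ * (y : G)⁻¹ := by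
              simp [MulAut.conjNormal_apply]
            rw [e]
            have hqS := hSnorm Wb hWS (hk.QS hq)
            rw [Subgroup.mem_normalizer_iff] at hqS
            exact Subgroup.mul_mem _ ((hqS _).1 hw) (Subgroup.inv_mem _ hw)
          · rw [hcoe]
            have hyN := hk.LQ (hWL hw)
            rw [Subgroup.mem_normalizer_iff] at hyN
            exact Q.mul_mem hq ((hyN _).1 (Q.inv_mem hq))
        have h6 : pull p Y Wb ⊓ Q ≤ opOf p (pull p Y Wb) := by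
          apply k3_le_opOf _ _ inf_le_left (hQp.to_le inf_le_right)
          intro h hh k hk'
          refine ⟨Subgroup.mul_mem _ (Subgroup.mul_mem _ hh hk'.1) (Subgroup.inv_mem _ hh), ?_⟩
          have hN := hk.LQ (hWL hh)
          rw [Subgroup.mem_normalizer_iff] at hN
          exact (hN k).1 hk'.2
        have h7 := d3_opOf_le_opOf (pull p Y Wb) Y (pull_le Wb) hWY (h6 hcW)
        obtain ⟨z, hz, he⟩ := h7
        have e2 : z = MulAut.conjNormal q y * y⁻¹ := Subtype.ext he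
        rw [← e2]
        exact hz
      rw [h1, one_mul]
  · intro hp Wb hWS
    by_cases hT : T ≤ pull p Y Wb
    · left
      exact hTle Wb hT
    · right
      have hWL : pull p Y Wb ≤ L := hk.inv _ (hSnorm Wb hWS) hT
      intro q hq x hx
      obtain ⟨y, rfl⟩ := QuotientGroup.mk'_surjective (Cfsg.pCore p ↥Y) x
      have hw : (y : G) ∈ pull p Y Wb := (mem_pull Wb y).2 hx
      apply coreP hp q hq y
      have hyN := hk.LQ (hWL hw)
      rw [Subgroup.mem_normalizer_iff] at hyN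
      exact (hyN _).1 (Q.inv_mem hq)
  · intro hp q hq x hx
    obtain ⟨y, hy, rfl⟩ := hx
    apply coreP hp q hq y
    have hyN := hk.LQ (show (y : G) ∈ L from hy)
    rw [Subgroup.mem_normalizer_iff] at hyN
    exact (hyN _).1 (Q.inv_mem hq)

end Cfsg.Agent.Lib.Helper21.Iso
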